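import Mathlib
import Cfsg.Agent.Lib.Lead.BG95.Defs
import Cfsg.Agent.Lib.Helper61.BG9c
import Cfsg.Agent.Lib.Helper23.KConn
import Cfsg.Agent.S1398
import Cfsg.Agent.S1399
import Cfsg.Agent.Lib.Helper75.BG95A

/-!
Team project S1402 (BG 9.5): the final assembly (Step 5 of the paper proof) from the packages
`PK0`, ..., `PK9` of `Cfsg.Agent.Lib.Lead.BG95`.
-/

set_option autoImplicit false

namespace Cfsg.Agent.Lib.Helper61.BG95

open Cfsg Cfsg.Agent.Lib.Lead.BG95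

universe u

/-- BG 9.5 from the packages, with the existence of a type (B) coatom (Case 0) as a local
hypothesis. -/
theorem main_core (h0 : PK0.{u}) (h1 : PK1.{u}) (h2 : PK2.{u}) (h3 : PK3.{u})
    (h4 : PK4.{u}) (h5 : PK5.{u}) (h6 : PK6.{u}) (h7 : PK7.{u}) (h8 : PK8.{u})
    {G : Type u} [Group G] [Finite G] (hG : IsMinSimpleOddOrder G)
    (p : ℕ) [Fact p.Prime] (P : Sylow p G) (A : Subgroup G) (hA : IsSCN (P : Subgroup G) A)
    (hA3 : ¬ PRankLE p 2 ↥A)
    (h9 : ¬ InUniqueMaximal A → ∃ M : Subgroup G, IsCoatom M ∧ A ≤ M ∧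
      ¬ RankLE 2 ↥(fittingSubgroup ↥M)) : InUniqueMaximal A := by
  by_contra hnU
  have hp : p.Prime := Fact.out
  obtain ⟨E, ctx⟩ := h0 G hG p P A hA hA3 hnU
  obtain ⟨hodd, hsimple, hnc, hsolv⟩ := hG
  have hG : IsMinSimpleOddOrder G := ⟨hodd, hsimple, hnc, hsolv⟩
  -- centralizers of nonidentity elements are proper
  have hcent : ∀ b : G, b ≠ 1 → Subgroup.centralizer ({b} : Set G) ≠ ⊤ := by
    intro b hb1 htop
    have h1 : Subgroup.zpowers b ≠ ⊥ := fun h => hb1 (Subgroup.zpowers_eq_bot.mp h)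
    apply Cfsg.Agent.Lib.Helper61.bg_centralizer_ne_top hsimple hnc h1
    rw [eq_top_iff, ← htop]
    exact centralizer_singleton_le_centralizer_zpowers b
  -- `A` is not cyclic-like: rank at least 2
  have hEp : p < Nat.card ↥E := by
    rw [ctx.hE3]
    calc p = p ^ 1 := (pow_one p).symm
      _ < p ^ 3 := Nat.pow_lt_pow_right hp.one_lt (by norm_num)
  have hAr1 : ¬ RankLE 1 ↥A := Cfsg.Agent.Lib.Helper61.bg_not_rankLE_one hp ctx.hEe ctx.hEA hEp
  have hAne : A ≠ ⊥ := by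
    rintro rfl
    have h1 : E = ⊥ := le_bot_iff.mp ctx.hEA
    rw [h1, Subgroup.card_bot] at hEp
    exact absurd hEp (by have := hp.one_lt; omega)
  -- the full type (B) data for every type (B) coatom over `A`
  have hTB : ∀ M : Subgroup G, IsCoatom M → A ≤ M → ¬ RankLE 2 ↥(fittingSubgroup ↥M) →
      ∃ (u : ℕ) (W : Subgroup G), TypeB p A M u W := by
    intro M hM hAM hr
    obtain ⟨u, W, hW⟩ := h1 G p A E ctx M hM hAM hr
    obtain ⟨b, hbE, hb1, hbM⟩ := h3 G p A E ctx M u W hW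
    exact ⟨u, W, h4 G p A E ctx M u W hW b hbE hb1 hbM⟩
  have hA1A : ⁅A, Subgroup.normalizer (A : Set G)⁆ ≤ A := by
    rw [Subgroup.commutator_le]
    intro a ha n hn
    have h1 : n * a⁻¹ * n⁻¹ ∈ A := (hn a⁻¹).mp (A.inv_mem ha)
    have h2 : a * n * a⁻¹ * n⁻¹ = a * (n * a⁻¹ * n⁻¹) := by group
    change a * n * a⁻¹ * n⁻¹ ∈ A
    rw [h2]
    exact A.mul_mem ha h1
  -- Step: an `A`-minimal `V' = [V', A]` inside `W`
  have hstep : ∀ (M : Subgroup G) (u : ℕ) (W : Subgroup G), TypeB p A M u W →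
      ¬ RankLE 2 ↥(fittingSubgroup ↥M) →
      ∀ V' : Subgroup G, V' ≤ W → AMin A V' → V' ≤ ⁅V', A⁆ →
        ⁅A, Subgroup.normalizer (A : Set G)⁆ ≤ Subgroup.centralizer (V' : Set G) ∧
        ∃ H : Subgroup G, IsCoatom H ∧ H ≠ M ∧ A ≤ H ∧ ¬ RankLE 2 ↥(fittingSubgroup ↥H) := by
    intro M u W hT hr V' hV'W hmin hcomm
    have hu : u.Prime := hT.hu
    have : Fact u.Prime := ⟨hu⟩
    have hWp : IsPGroup u W := Cfsg.Agent.Lib.Helper61.bg_isPGroup_of_isEA hT.hWe
    have hV'u : IsPGroup u V' := hWp.to_le hV'W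
    have hcop : (Nat.card ↥V').Coprime p := by
      obtain ⟨k, hk⟩ := IsPGroup.iff_card.mp hV'u
      rw [hk]
      exact Nat.Coprime.pow_left k ((Nat.coprime_primes hu hp).mpr hT.hup)
    obtain ⟨D, hDE, hDc, hDV⟩ :=
      h2 G p A E V' ctx.hAp ctx.hAc ctx.hEA ctx.hEe ctx.hE3 hcop hmin
    have hDe : IsElementaryAbelian p D := Cfsg.Agent.Lib.Helper23.isEA_of_le ctx.hEe hDE
    have hDp : p < Nat.card ↥D := by
      rw [hDc]
      calc p = p ^ 1 := (pow_one p).symm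
        _ < p ^ 2 := Nat.pow_lt_pow_right hp.one_lt (by norm_num)
    have hDnc : ¬ IsCyclic ↥D := Cfsg.Agent.Lib.Helper61.bg_not_isCyclic_of_EA hp hDe hDp
    have hDA : D ≤ A := hDE.trans ctx.hEA
    by_cases hall : ∀ b ∈ D, b ≠ 1 → Subgroup.centralizer ({b} : Set G) ≤ M
    · exfalso
      have hDU : InUniqueMaximal D :=
        Cfsg.Agent.S1398.result hG M hT.hM p D (hDA.trans hT.hAM) hDe hDnc (Or.inl hall)
      exact ctx.hnU (Cfsg.Agent.Lib.Helper61.bg_unique_of_le hDU hDA hT.hM hT.hAM)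
    · push Not at hall
      obtain ⟨b, hbD, hb1, hbM⟩ := hall
      obtain ⟨H, hH, hCH⟩ := Cfsg.Agent.Lib.Helper61.bg_exists_isCoatom_ge (hcent b hb1)
      have hHM : H ≠ M := by
        rintro rfl
        exact hbM hCH
      have hAH : A ≤ H := by
        refine le_trans ?_ hCH
        intro a ha
        rw [Subgroup.mem_centralizer_iff]
        intro y hy
        rw [Set.mem_singleton_iff] at hy
        subst hy
        exact ctx.hAc y (hDA hbD) a ha
      have hV'H : V' ≤ H := by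
        refine le_trans ?_ hCH
        intro v hv
        rw [Subgroup.mem_centralizer_iff]
        intro y hy
        rw [Set.mem_singleton_iff] at hy
        subst hy
        exact (Subgroup.mem_centralizer_iff.mp (hDV hbD) v hv).symm
      have hrH := h5 G p A E ctx M u W hT hr V' hV'W hmin hcomm H hH hAH hV'H
      obtain ⟨uH, WH, hTH⟩ := hTB H hH hAH hrH
      have hNA : Subgroup.normalizer (A : Set G) ≤ H := hTH.hB7 A ctx.hAp le_rfl
      exact ⟨h6 G p A E ctx M u W hT H hH hHM hNA V' hV'H hV'u hmin.2.1, H, hH, hHM, hAH, hrH⟩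
  -- `[A, N(A)]` centralizes `W`, and there is a second type (B) coatom
  have hC : ∀ (M : Subgroup G) (u : ℕ) (W : Subgroup G), TypeB p A M u W →
      ¬ RankLE 2 ↥(fittingSubgroup ↥M) →
      ⁅A, Subgroup.normalizer (A : Set G)⁆ ≤ Subgroup.centralizer (W : Set G) ∧
      ∃ H : Subgroup G, IsCoatom H ∧ H ≠ M ∧ A ≤ H ∧ ¬ RankLE 2 ↥(fittingSubgroup ↥H) := by
    intro M u W hT hr
    have hu : u.Prime := hT.hu
    have : Fact u.Prime := ⟨hu⟩
    have hWp : IsPGroup u W := Cfsg.Agent.Lib.Helper61.bg_isPGroup_of_isEA hT.hWe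
    have hWab : ∀ x ∈ W, ∀ y ∈ W, x * y = y * x :=
      fun x hx y hy => Cfsg.Agent.Lib.Helper23.isEA_comm hT.hWe hx hy
    have hWcop : (Nat.card ↥W).Coprime p := by
      obtain ⟨k, hk⟩ := IsPGroup.iff_card.mp hWp
      rw [hk]
      exact Nat.Coprime.pow_left k ((Nat.coprime_primes hu hp).mpr hT.hup)
    constructor
    · by_contra hA1
      obtain ⟨V', hV'W, hmin, hncen, hcomm⟩ :=
        h8 G p A ⁅A, Subgroup.normalizer (A : Set G)⁆ W ctx.hAp ctx.hAc hA1A hWab hWcop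
          hT.hAW hA1
      exact hncen (hstep M u W hT hr V' hV'W hmin hcomm).1
    · have hAW : ¬ A ≤ Subgroup.centralizer (W : Set G) := by
        intro hcen
        have hWU := hT.hWU W le_rfl hT.hWnc
        exact ctx.hnU (Cfsg.Agent.S1399.result hG W A hWU hcen hAr1)
      obtain ⟨V', hV'W, hmin, -, hcomm⟩ :=
        h8 G p A A W ctx.hAp ctx.hAc le_rfl hWab hWcop hT.hAW hAW
      exact (hstep M u W hT hr V' hV'W hmin hcomm).2
  -- the end
  obtain ⟨M, hM, hAM, hr⟩ := h9 hnU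
  obtain ⟨u, W, hT⟩ := hTB M hM hAM hr
  obtain ⟨hA1W, H, hH, hHM, hAH, hrH⟩ := hC M u W hT hr
  obtain ⟨uH, WH, hTH⟩ := hTB H hH hAH hrH
  obtain ⟨hA1WH, -⟩ := hC H uH WH hTH hrH
  have hA1ne : ⁅A, Subgroup.normalizer (A : Set G)⁆ ≠ ⊥ := h7 G hG p P A hA hAne
  obtain ⟨e, he1⟩ := (Subgroup.ne_bot_iff_exists_ne_one).mp hA1ne
  have he1' : (e : G) ≠ 1 := fun h => he1 (Subtype.ext h)
  obtain ⟨L, hL, hCL⟩ := Cfsg.Agent.Lib.Helper61.bg_exists_isCoatom_ge (hcent (e : G) he1')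
  have hle : ∀ X : Subgroup G,
      ⁅A, Subgroup.normalizer (A : Set G)⁆ ≤ Subgroup.centralizer (X : Set G) → X ≤ L := by
    intro X hX
    refine le_trans ?_ hCL
    intro x hx
    rw [Subgroup.mem_centralizer_iff]
    intro y hy
    rw [Set.mem_singleton_iff] at hy
    subst hy
    exact (Subgroup.mem_centralizer_iff.mp (hX e.2) x hx).symm
  have e1 : M = L := Cfsg.Agent.Lib.Helper61.bg_unique_eq (hT.hWU W le_rfl hT.hWnc) hT.hM hT.hWM
    hL (hle W hA1W)
  have e2 : H = L := Cfsg.Agent.Lib.Helper61.bg_unique_eq (hTH.hWU WH le_rfl hTH.hWnc) hTH.hM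
    hTH.hWM hL (hle WH hA1WH)
  exact hHM (e2.trans e1.symm)

/-- BG 9.5 from the packages `PK0`, ..., `PK9`. -/
theorem main_of_packages (h0 : PK0.{u}) (h1 : PK1.{u}) (h2 : PK2.{u}) (h3 : PK3.{u})
    (h4 : PK4.{u}) (h5 : PK5.{u}) (h6 : PK6.{u}) (h7 : PK7.{u}) (h8 : PK8.{u}) (h9 : PK9.{u})
    {G : Type u} [Group G] [Finite G] (hG : IsMinSimpleOddOrder G)
    (p : ℕ) [Fact p.Prime] (P : Sylow p G) (A : Subgroup G) (hA : IsSCN (P : Subgroup G) A)
    (hA3 : ¬ PRankLE p 2 ↥A) : InUniqueMaximal A := by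
  refine main_core h0 h1 h2 h3 h4 h5 h6 h7 h8 hG p P A hA hA3 ?_
  intro hnU
  obtain ⟨E, ctx⟩ := h0 G hG p P A hA hA3 hnU
  exact h9 G p A E ctx

/-- Rank transfer between the two forms of the Fitting subgroup of a subgroup. -/
theorem rankLE_fittingOf_of_fittingSubgroup {G : Type u} [Group G] {M : Subgroup G} {k : ℕ}
    (h : RankLE k ↥(fittingSubgroup ↥M)) : RankLE k ↥(fittingOf M) := by
  intro q hq
  exact Cfsg.Agent.Lib.Helper61.bg_pRankLE_of_injective
    ((fittingSubgroup ↥M).equivMapOfInjective M.subtype M.subtype_injective).symm.toMonoidHom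
    ((fittingSubgroup ↥M).equivMapOfInjective M.subtype M.subtype_injective).symm.injective
    (h q hq)

/-- BG 9.5 from the packages `PK0`, ..., `PK8`; Case 0 (`PK9`) is replaced by the landed
`Helper75.BG95.case_two`. -/
theorem main_of_packages' (h0 : PK0.{u}) (h1 : PK1.{u}) (h2 : PK2.{u}) (h3 : PK3.{u})
    (h4 : PK4.{u}) (h5 : PK5.{u}) (h6 : PK6.{u}) (h7 : PK7.{u}) (h8 : PK8.{u})
    {G : Type u} [Group G] [Finite G] (hG : IsMinSimpleOddOrder G)
    (p : ℕ) [Fact p.Prime] (P : Sylow p G) (A : Subgroup G) (hA : IsSCN (P : Subgroup G) A)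
    (hA3 : ¬ PRankLE p 2 ↥A) : InUniqueMaximal A := by
  refine main_core h0 h1 h2 h3 h4 h5 h6 h7 h8 hG p P A hA hA3 ?_
  intro hnU
  by_contra hno
  push Not at hno
  exact hnU (Cfsg.Agent.Lib.Helper75.BG95.case_two hG p P hA hA3
    (fun M hM hAM => rankLE_fittingOf_of_fittingSubgroup (hno M hM hAM)))

end Cfsg.Agent.Lib.Helper61.BG95
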