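import Mathlib
import Cfsg.Agent.Lib.Lead.BG95.Defs
import Cfsg.Agent.Lib.Helper71.BG.BG95B
import Cfsg.Agent.Lib.Helper61.BG9c
import Cfsg.Agent.Lib.Helper23.KConn

/-!
Team project S1402 (BG 9.5), package PK0: the hypotheses of S1402 together with the failure of
its conclusion give the counterexample context `Ctx`.
-/

set_option autoImplicit false

namespace Cfsg.Agent.Lib.Helper61.BG95

open Cfsg Cfsg.Agent.Lib.Lead.BG95

universe u

theorem pk0 : PK0.{u} := by
  intro G _ _ hG p _ P A hA hA3 hnU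
  have hp : p.Prime := Fact.out
  obtain ⟨D, hDe, hDA, hDc⟩ := Cfsg.Agent.Lib.Helper61.bg_exists_EA_of_not_pRankLE hA3
  have hDp : IsPGroup p D := Cfsg.Agent.Lib.Helper61.bg_isPGroup_of_isEA hDe
  obtain ⟨n, hn⟩ := IsPGroup.iff_card.mp hDp
  have hn3 : 3 ≤ n := by
    by_contra hlt
    have h2 : n ≤ 2 := by omega
    have h3 : p ^ n ≤ p ^ 2 := Nat.pow_le_pow_right hp.pos h2
    omega
  have hdvd : p ^ 3 ∣ Nat.card ↥D := by
    rw [hn]
    exact pow_dvd_pow p hn3
  obtain ⟨K, hK⟩ := Sylow.exists_subgroup_card_pow_prime p hdvd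
  have hKD : K.map D.subtype ≤ D := Subgroup.map_subtype_le K
  refine ⟨K.map D.subtype, ?_⟩
  refine
    { hG := hG
      hAp := Cfsg.Agent.Lib.Helper71.BG.scn_isPGroup P hA
      hAc := fun a ha b hb => Cfsg.Agent.Lib.Helper61.bg_isSCN_comm hA a ha b hb
      hTH := Cfsg.Agent.Lib.Helper71.BG.scn_TH hG P hA hA3
      htr := ?_
      hEA := hKD.trans hDA
      hEe := Cfsg.Agent.Lib.Helper23.isEA_of_le hDe hKD
      hE3 := ?_
      hnU := hnU }
  · intro q hq hqA
    have hqp : q ≠ p := by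
      rintro rfl
      exact hqA (Cfsg.Agent.Lib.Helper71.BG.scn_dvd_card P hA hA3)
    exact Cfsg.Agent.Lib.Helper71.BG.scn_trans hG P hA hA3 hq hqp
  · rw [Subgroup.card_map_of_injective D.subtype_injective, hK]

end Cfsg.Agent.Lib.Helper61.BG95
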